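import Groth.Agent.Lib.LefEt7.Clopen
import Groth.Agent.Lib.FinCov.FrameFree
import Groth.Agent.Lib.FunMor20.Scalar
import Groth.Agent.Lib.Euler.Section
import Groth.Prelude.Def_Lef

/-!
# The quotient maps on sections, and the structure sheaf case of the Lefschetz condition
-/

set_option autoImplicit false
set_option backward.isDefEq.respectTransparency false

universe u

open CategoryTheory AlgebraicGeometry TopologicalSpace

namespace GrothLib.LefEt7

variable {X : Scheme.{u}}

theorem map_map_self {W : Scheme.{u}} {A B : W.Opens} (i : Opposite.op A ⟶ Opposite.op B)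
    (j : Opposite.op B ⟶ Opposite.op A) (x : Γ(W, A)) : W.presheaf.map j (W.presheaf.map i x) = x := by
  rw [← ConcreteCategory.comp_apply, ← Functor.map_comp, Subsingleton.elim (i ≫ j) (𝟙 _),
    CategoryTheory.Functor.map_id]
  rfl

theorem presheaf_map_self (M : X.Modules) (i : Opposite.op (⊤ : X.Opens) ⟶ Opposite.op ⊤) (x : Γ(M, ⊤)) :
    M.presheaf.map i x = x := by
  rw [Subsingleton.elim i (𝟙 _), CategoryTheory.Functor.map_id]
  rfl

/-- `O → O/I → O/J` is the reduction modulo `J`. -/
theorem toSubscheme_quotMap {I J : X.IdealSheafData} (h : I ≤ J) :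
    ClSub.toSubscheme I ≫ Lef.quotMap h = ClSub.toSubscheme J := by
  refine Scheme.Modules.hom_ext _ _ fun U => ?_
  ext s
  have e := Scheme.Hom.congr_app (Scheme.IdealSheafData.inclusion_subschemeι h) U
  rw [Scheme.Hom.comp_app] at e
  simp only [Lef.quotMap]
  refine Eq.trans ?_ (map_map_self (eqToHom (congrArg (fun f => f ⁻¹ᵁ U)
    (Scheme.IdealSheafData.inclusion_subschemeι h))).op (eqToHom (congrArg (fun f => f ⁻¹ᵁ U)
    (Scheme.IdealSheafData.inclusion_subschemeι h).symm)).op (J.subschemeι.app U (show Γ(X, U) from s)))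
  exact congrArg (J.subscheme.presheaf.map _) (congr($e (show Γ(X, U) from s)))

theorem quotMap_app_top {I J : X.IdealSheafData} (h : I ≤ J) (x : Γ(I.subscheme, ⊤)) :
    (Lef.quotMap h).app ⊤ x = (Scheme.IdealSheafData.inclusion h).appTop x := by
  simp [Lef.quotMap]
  rfl

/-- The morphism `O → O/I` of a function on the subscheme. -/
noncomputable def secHom (I : X.IdealSheafData) (x : Γ(I.subscheme, ⊤)) :
    Coh.structureModule X ⟶ ClSub.quotMod I :=
  FinCov.homOfSection (show Γ(ClSub.quotMod I, ⊤) from x)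

theorem secHom_one (I : X.IdealSheafData) (x : Γ(I.subscheme, ⊤)) :
    (secHom I x).app ⊤ (FinCov.one X ⊤) = x :=
  (FinCov.homOfSection_one (N := ClSub.quotMod I) x ⊤).trans (presheaf_map_self _ _ _)

theorem secHom_quotMap {I J : X.IdealSheafData} (h : I ≤ J) (x : Γ(I.subscheme, ⊤)) :
    secHom I x ≫ Lef.quotMap h = secHom J ((Scheme.IdealSheafData.inclusion h).appTop x) := by
  refine FunMor20.homOfSection_unique ?_
  refine Eq.trans ?_ (secHom_one J _).symm
  refine Eq.trans ?_ (quotMap_app_top h x)
  exact congrArg ((Lef.quotMap h).app ⊤) (secHom_one I x)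

/-- With `D = O`, the hypothesis says that global functions are the limit of those on the thickenings. -/
theorem secBij_of_unit (𝓙 : X.IdealSheafData) (h : Lef.HomToFormalBijective 𝓙 (Coh.structureModule X)) :
    SecBij (fun n => 𝓙 ^ (n + 1)) (fun n => Lef.pow_succ_le 𝓙 n) := by
  have hsec : ∀ {I : X.IdealSheafData} (φ : Coh.structureModule X ⟶ Coh.structureModule X),
      (φ ≫ ClSub.toSubscheme I).app ⊤ (FinCov.one X ⊤) =
        I.subschemeι.appTop (show Γ(X, ⊤) from φ.app ⊤ (FinCov.one X ⊤)) := fun φ => rfl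
  have h1 : ∀ (t : Γ(X, ⊤)),
      (show Γ(X, ⊤) from (FinCov.homOfSection (N := Coh.structureModule X) t).app ⊤ (FinCov.one X ⊤)) = t := by
    intro t
    refine (FinCov.homOfSection_one (N := Coh.structureModule X) t ⊤).trans ?_
    exact (congrArg (fun i => X.presheaf.map i t) (Subsingleton.elim _ (𝟙 _))).trans (by simp)
  constructor
  · intro t ht
    have := h.1 (FinCov.homOfSection (N := Coh.structureModule X) t) 0 fun n =>
      FunMor20.homOfSection_unique ((hsec _).trans ((congrArg _ (h1 t)).trans ((ht n).trans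
        (by rw [Limits.zero_comp]; rfl))))
    rw [← h1 t, this]
    rfl
  · intro e he
    obtain ⟨φ, hφ⟩ := h.2 (fun n => secHom (𝓙 ^ (n + 1)) (e n))
      fun n => (secHom_quotMap _ _).trans (congrArg (secHom _) (he n))
    refine ⟨φ.app ⊤ (FinCov.one X ⊤), fun n => ?_⟩
    refine (hsec φ).symm.trans ?_
    rw [hφ n]
    exact secHom_one _ (e n)

end GrothLib.LefEt7
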