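import Groth.Agent.Lib.LefEt7.Sec
import Groth.Agent.Lib.Ample.Generation
import Groth.Agent.Lib.FunMor20.ProjAffine
import Groth.Agent.Lib.Euler.Coh

/-!
# On a quasi-affine scheme the Lefschetz bijectivity for `O` gives it for all quasi-coherent modules
-/

set_option autoImplicit false
set_option backward.isDefEq.respectTransparency false
set_option linter.style.haveILetI false

universe u

open CategoryTheory CategoryTheory.Limits AlgebraicGeometry Opposite

namespace GrothLib.LefEt7

variable {X : Scheme.{u}}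

theorem sections_ext {N : X.Modules} (σ τ : N.val.sections) (h : σ.1 (op ⊤) = τ.1 (op ⊤)) : σ = τ := by
  refine Subtype.ext (funext fun V => ?_)
  rw [← σ.2 (homOfLE (le_top : V.unop ≤ ⊤)).op, ← τ.2 (homOfLE (le_top : V.unop ≤ ⊤)).op, h]

theorem eq_of_freeHom_top {ι : Type u} {M N : X.Modules}
    {p : (SheafOfModules.free (R := X.ringCatSheaf) ι : X.Modules) ⟶ M} (g g' : M ⟶ N)
    (h : ∀ i, g.app ⊤ ((M.freeHomEquiv p i).1 (op ⊤)) = g'.app ⊤ ((M.freeHomEquiv p i).1 (op ⊤))) :
    p ≫ g = p ≫ g' := by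
  refine N.freeHomEquiv.injective (funext fun i => sections_ext _ _ ?_)
  simp only [SheafOfModules.freeHomEquiv_comp_apply]
  exact h i

theorem epi_freeCover_of_isGloballyGenerated {M : X.Modules} (h : Curv2.IsGloballyGenerated M) :
    Epi (FunMor20.freeCover M) := by
  obtain ⟨ι, p, hp⟩ := h
  refine ⟨fun {N : X.Modules} (g g' : M ⟶ N) hgg => ?_⟩
  have hs : ∀ s : Γ(M, ⊤), g.app ⊤ s = g'.app ⊤ s := fun s => by
    have h1 := congrArg (fun k => Sigma.ι (fun _ : Γ(M, ⊤) => Coh.structureModule X) s ≫ k) hgg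
    simp only [FunMor20.freeCover, Sigma.ι_desc_assoc] at h1
    have h2 := congrArg (fun k => Scheme.Modules.Hom.app k ⊤ (FinCov.one X ⊤)) h1
    simp only [Scheme.Modules.Hom.comp_app] at h2
    have h3 : (FinCov.homOfSection s).app ⊤ (FinCov.one X ⊤) = s :=
      (FinCov.homOfSection_one s ⊤).trans (presheaf_map_self _ _ _)
    rw [← h3]
    exact h2
  refine (cancel_epi p).1 (eq_of_freeHom_top _ _ fun i => ?_)
  exact hs ((M.freeHomEquiv p i).1 (op ⊤))

theorem homToFormalBijective_of_unit_of_quasiAffine [X.IsQuasiAffine] (𝓙 : X.IdealSheafData)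
    (h : Lef.HomToFormalBijective 𝓙 (Coh.structureModule X)) (D : X.Modules) [D.IsQuasicoherent] :
    Lef.HomToFormalBijective 𝓙 D := by
  haveI hq : Epi (FunMor20.freeCover D) :=
    epi_freeCover_of_isGloballyGenerated (Ample.isGloballyGenerated_of_isQuasiAffine D)
  haveI : (∐ fun _ : Γ(D, ⊤) => Coh.structureModule X).IsQuasicoherent :=
    QCoh.isQuasicoherent_colimit _ fun _ => WeakAss.isQuasicoherent_structureModule
  haveI := QCoh.isQuasicoherent_kernel (FunMor20.freeCover D)
  haveI hr : Epi (FunMor20.freeCover (kernel (FunMor20.freeCover D))) :=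
    epi_freeCover_of_isGloballyGenerated (Ample.isGloballyGenerated_of_isQuasiAffine _)
  let q := FunMor20.freeCover D
  constructor
  · intro φ ψ hφ
    refine (cancel_epi q).1 (Sigma.hom_ext _ _ fun i => h.1 _ _ fun n => ?_)
    simp only [Category.assoc, hφ n]
  · intro y hy
    have hg : ∀ i : Γ(D, ⊤), ∃ χ : Coh.structureModule X ⟶ Coh.structureModule X,
        ∀ n, χ ≫ ClSub.toSubscheme (𝓙 ^ (n + 1)) =
          Sigma.ι (fun _ : Γ(D, ⊤) => Coh.structureModule X) i ≫ q ≫ y n :=
      fun i => h.2 _ fun n => by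
        show (Sigma.ι (fun _ : Γ(D, ⊤) => Coh.structureModule X) i ≫ q ≫ y (n + 1)) ≫ _ = _
        rw [Category.assoc, Category.assoc, hy n]
    choose χ hχ using hg
    have hd : ∀ n, Sigma.desc χ ≫ ClSub.toSubscheme (𝓙 ^ (n + 1)) = q ≫ y n := fun n =>
      Sigma.hom_ext _ _ fun i => by rw [Sigma.ι_desc_assoc]; exact hχ i n
    have hk : kernel.ι q ≫ Sigma.desc χ = 0 := by
      refine (cancel_epi (FunMor20.freeCover (kernel q))).1 (Sigma.hom_ext _ _ fun i => h.1 _ _ fun n => ?_)
      rw [comp_zero, comp_zero, zero_comp, Category.assoc, Category.assoc, Category.assoc, hd n,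
        ← Category.assoc (kernel.ι q), kernel.condition, zero_comp, comp_zero, comp_zero]
    refine ⟨Abelian.epiDesc q (Sigma.desc χ) hk, fun n => ?_⟩
    rw [← cancel_epi q, ← Category.assoc, Abelian.comp_epiDesc, hd n]

end GrothLib.LefEt7
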