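import Groth.Agent.Lib.LefEt7.Tau
import Groth.Agent.Lib.LefEt7.Sec
import Groth.Agent.Lib.RelSpec.OfAffine

/-!
# Functions on a finite étale cover are the limit of the functions on its thickenings

The hypothesis is the Lefschetz bijectivity for the direct image of the structure sheaf of the cover; the trace
identifies this module with its dual.
-/

set_option autoImplicit false
set_option backward.isDefEq.respectTransparency false
set_option linter.unusedSectionVars false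
set_option linter.style.haveILetI false

universe u

open CategoryTheory AlgebraicGeometry TopologicalSpace Opposite

namespace GrothLib.LefEt7

theorem resO_refl {X : Scheme.{u}} {U : X.Opens} (h : U ≤ U) (s : Γ(X, U)) :
    X.presheaf.map (homOfLE h).op s = s := by
  rw [Subsingleton.elim (homOfLE h).op (𝟙 _), CategoryTheory.Functor.map_id]
  rfl

theorem res_app {Y Z : Scheme.{u}} (g : Y ⟶ Z) {V W : Z.Opens} (h : V ≤ W) (s : Γ(Z, W)) :
    Y.presheaf.map (homOfLE (g.preimage_mono h)).op (g.app W s) = g.app V (Z.presheaf.map (homOfLE h).op s) :=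
  (congr($(g.naturality (homOfLE h).op) s)).symm

theorem app_restrict_comp {U V Z : Scheme.{u}} {f : U ⟶ V} {g : V ⟶ Z} {k : U ⟶ Z} (e : f ≫ g = k)
    (W : Z.Opens) (a : Γ(Z, W)) (c : Γ(V, ⊤))
    (ha : g.app W a = V.presheaf.map (homOfLE (le_top : g ⁻¹ᵁ W ≤ ⊤)).op c) :
    k.app W a = U.presheaf.map (homOfLE (le_top : k ⁻¹ᵁ W ≤ ⊤)).op (f.appTop c) := by
  subst e
  show f.app (g ⁻¹ᵁ W) (g.app W a) = _
  rw [ha]
  exact (res_app f le_top c).symm

theorem sheaf_ext {Y : Scheme.{u}} {T : Y.Opens} {s t : Γ(Y, T)}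
    (h : ∀ x ∈ T, ∃ (W : Y.Opens) (k : W ≤ T), x ∈ W ∧
      Y.presheaf.map (homOfLE k).op s = Y.presheaf.map (homOfLE k).op t) : s = t :=
  FinCov.eq_of_cover h

variable {X A : Scheme.{u}} (p : A ⟶ X) [IsFinite p] [Etale p]

/-- A morphism to `O` on sections. -/
noncomputable def ev (φ : push p ⟶ Coh.structureModule X) (V : X.Opens) (x : Γ(A, p ⁻¹ᵁ V)) : Γ(X, V) :=
  φ.app V x

/-- A section upstairs representing a morphism to `O` on all smaller opens. -/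
def Rep (φ : push p ⟶ Coh.structureModule X) (W : X.Opens) (a : Γ(A, p ⁻¹ᵁ W)) : Prop :=
  ∀ (V : X.Opens) (h : V ≤ W) (x : Γ(A, p ⁻¹ᵁ V)),
    ev p φ V x = tau p V (resU p h a * x)

theorem rep_res (φ : push p ⟶ Coh.structureModule X) {W V : X.Opens} (h : V ≤ W) {a : Γ(A, p ⁻¹ᵁ W)}
    (ha : Rep p φ W a) : Rep p φ V (resU p h a) := fun U h' x => by
  rw [resU_resU]; exact ha U _ x

theorem app_push_res (φ : push p ⟶ Coh.structureModule X) {W V : X.Opens} (h : V ≤ W) (x : Γ(A, p ⁻¹ᵁ W)) :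
    ev p φ V (resU p h x) = X.presheaf.map (homOfLE h).op (ev p φ W x) :=
  (FinCov.app_res (dimg p) φ h x).symm

theorem app_push_mul (φ : push p ⟶ Coh.structureModule X) (W : X.Opens) (r : Γ(X, W)) (x : Γ(A, p ⁻¹ᵁ W)) :
    ev p φ W (p.app W r * x) = r * ev p φ W x :=
  Scheme.Modules.Hom.app_smul φ r x

theorem existsUnique_rep_good (φ : push p ⟶ Coh.structureModule X) {W : X.Opens} (hW : Good p W) :
    ∃! a, Rep p φ W a := by
  let φW : Γ(A, p ⁻¹ᵁ W) →+ Γ(X, W) := AddMonoidHom.mk' (fun x => ev p φ W x)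
    (map_add (φ.app W).hom)
  obtain ⟨a, ha, hu⟩ := existsUnique_tau_eq p hW φW (app_push_mul p φ W)
  refine ⟨a, ?_, fun b hb => hu b fun x => ?_⟩
  · intro V hVW x
    refine sheaf_ext fun z hz => ?_
    obtain ⟨r, hrV, hzr⟩ := hW.1.exists_basicOpen_le ⟨z, hz⟩ (hVW hz)
    refine ⟨X.basicOpen r, hrV, hzr, ?_⟩
    rw [← app_push_res p φ hrV, tau_res p hrV, resU_mul]
    show ev p φ _ (resU p hrV x) = tau p _ (resU p hrV (resU p hVW a) * resU p hrV x)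
    rw [resU_resU]
    generalize resU p hrV x = x'
    have hD := X.basicOpen_le r
    letI : Algebra Γ(A, p ⁻¹ᵁ W) Γ(A, p ⁻¹ᵁ X.basicOpen r) :=
      (A.presheaf.map (homOfLE (p.preimage_mono hD)).op).hom.toAlgebra
    have : IsLocalization.Away (p.app W r) Γ(A, p ⁻¹ᵁ X.basicOpen r) := (dimg p).isQC W hW.1 r
    obtain ⟨k, y, hy⟩ := IsLocalization.Away.surj (p.app W r) x'
    have hy' : p.app _ (X.presheaf.map (homOfLE hD).op r ^ k) * x' = resU p hD y := by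
      rw [map_pow, ← app_res p hD, mul_comm]
      exact hy
    have hur : IsUnit (X.presheaf.map (homOfLE hD).op r ^ k) := (by
      have := RingedSpace.isUnit_res_basicOpen X.toSheafedSpace r
      exact this.pow k)
    refine hur.mul_left_cancel ?_
    rw [← app_push_mul p φ, ← tau_mul, mul_left_comm, hy', app_push_res p φ hD]
    refine (congrArg _ (ha y)).trans ((tau_res p hD _).trans ?_)
    rw [resU_mul]
  · exact (hb W le_rfl x).trans (by rw [resU_self])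

theorem rep_unique (φ : push p ⟶ Coh.structureModule X) {W : X.Opens} {a b : Γ(A, p ⁻¹ᵁ W)}
    (ha : Rep p φ W a) (hb : Rep p φ W b) : a = b := by
  refine sheaf_ext fun z hz => ?_
  obtain ⟨W', h, hz', hW'⟩ := exists_good_le p (x := p z) hz
  exact ⟨p ⁻¹ᵁ W', p.preimage_mono h, hz',
    (existsUnique_rep_good p φ hW').unique (rep_res p φ h ha) (rep_res p φ h hb)⟩

/-- A morphism to `O` is the trace against a global function of the cover. -/
theorem exists_global_rep (φ : push p ⟶ Coh.structureModule X) :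
    ∃ t : Γ(A, p ⁻¹ᵁ (⊤ : X.Opens)), ∀ (W : X.Opens), Good p W →
      Rep p φ W (resU p le_top t) := by
  choose a ha _ using fun W : {W : X.Opens // Good p W} => existsUnique_rep_good p φ W.2
  have hcov : p ⁻¹ᵁ (⊤ : X.Opens) ≤ iSup fun W : {W : X.Opens // Good p W} => p ⁻¹ᵁ W.1 := fun z hz => by
    obtain ⟨W, -, hzW, hW⟩ := exists_good_le p (x := p z) (V := ⊤) trivial
    exact Opens.mem_iSup.2 ⟨⟨W, hW⟩, hzW⟩
  obtain ⟨(t : Γ(A, p ⁻¹ᵁ (⊤ : X.Opens))), ht, -⟩ := A.sheaf.existsUnique_gluing'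
    (fun W : {W : X.Opens // Good p W} => p ⁻¹ᵁ W.1) _ (fun W => homOfLE (p.preimage_mono le_top)) hcov a
    (by
      intro W₁ W₂
      exact rep_unique p φ (W := W₁.1 ⊓ W₂.1) (rep_res p φ inf_le_left (ha W₁))
        (rep_res p φ inf_le_right (ha W₂)))
  refine ⟨t, fun W hW => ?_⟩
  have h1 : resU p le_top t = a ⟨W, hW⟩ := ht ⟨W, hW⟩
  rw [h1]
  exact ha ⟨W, hW⟩

variable (𝓘 : X.IdealSheafData)

/-- The thickenings of the preimage. -/
noncomputable abbrev lev (n : ℕ) : A.IdealSheafData := (𝓘 ^ (n + 1)).comap p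

theorem lev_le (n : ℕ) : lev p 𝓘 (n + 1) ≤ lev p 𝓘 n :=
  (Scheme.IdealSheafData.map_gc p).monotone_l (Lef.pow_succ_le 𝓘 n)

theorem red_tau_eq_zero (n : ℕ) {W : X.Opens} (hW : IsAffineOpen W) {a : Γ(A, p ⁻¹ᵁ W)}
    (ha : (lev p 𝓘 n).subschemeι.app (p ⁻¹ᵁ W) a = 0) (x : Γ(A, p ⁻¹ᵁ W)) :
    (𝓘 ^ (n + 1)).subschemeι.app W (tau p W (a * x)) = 0 := by
  rw [← RingHom.mem_ker, (𝓘 ^ (n + 1)).ker_subschemeι_app ⟨W, hW⟩]
  exact tau_mem_ideal p _ hW ((app_eq_zero_iff p _ hW a).1 ha) x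

theorem red_tau_congr (n : ℕ) {W : X.Opens} (hW : IsAffineOpen W) {a b : Γ(A, p ⁻¹ᵁ W)}
    (h : (lev p 𝓘 n).subschemeι.app (p ⁻¹ᵁ W) a = (lev p 𝓘 n).subschemeι.app (p ⁻¹ᵁ W) b)
    (x : Γ(A, p ⁻¹ᵁ W)) : (𝓘 ^ (n + 1)).subschemeι.app W (tau p W (a * x)) =
      (𝓘 ^ (n + 1)).subschemeι.app W (tau p W (b * x)) := by
  rw [← sub_eq_zero, ← map_sub, ← tau_sub, ← sub_mul]
  exact red_tau_eq_zero p 𝓘 n hW (by rw [map_sub, h, sub_self]) x

/-- `a` lifts the function `c` over `W`. -/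
def Lifts (n : ℕ) (c : Γ((lev p 𝓘 n).subscheme, ⊤)) (W : X.Opens) (a : Γ(A, p ⁻¹ᵁ W)) : Prop :=
  (lev p 𝓘 n).subschemeι.app (p ⁻¹ᵁ W) a =
    (lev p 𝓘 n).subscheme.presheaf.map (homOfLE le_top).op c

theorem exists_lift (n : ℕ) (c : Γ((lev p 𝓘 n).subscheme, ⊤)) {W : X.Opens} (hW : IsAffineOpen W) :
    ∃ a, Lifts p 𝓘 n c W a :=
  (lev p 𝓘 n).subschemeι_app_surjective ⟨p ⁻¹ᵁ W, hW.preimage p⟩ _

theorem lifts_res (n : ℕ) (c : Γ((lev p 𝓘 n).subscheme, ⊤)) {V W : X.Opens} (h : V ≤ W) {a : Γ(A, p ⁻¹ᵁ W)}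
    (ha : Lifts p 𝓘 n c W a) : Lifts p 𝓘 n c V (resU p h a) := by
  unfold Lifts
  rw [resU, ← res_app, ha]
  exact (ConcreteCategory.comp_apply _ _ _).symm.trans (congrArg (fun i =>
    ((lev p 𝓘 n).subscheme.presheaf.map i) c) (Subsingleton.elim _ (homOfLE le_top).op) |> (fun e =>
      (by rw [← Functor.map_comp]; exact e)))

theorem exists_formalHom (e : ∀ n, Γ((lev p 𝓘 n).subscheme, ⊤)) (n : ℕ) :
    ∃ y : push p ⟶ ClSub.quotMod (𝓘 ^ (n + 1)), ∀ (W : X.Opens), IsAffineOpen W →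
      ∀ (a : Γ(A, p ⁻¹ᵁ W)), Lifts p 𝓘 n (e n) W a → ∀ x : Γ(A, p ⁻¹ᵁ W),
        y.app W x = (𝓘 ^ (n + 1)).subschemeι.app W (tau p W (a * x)) := by
  choose a ha using fun (W : X.Opens) (hW : IsAffineOpen W) => exists_lift p 𝓘 n (e n) hW
  obtain ⟨y, hy⟩ := RelSpec.exists_modHom (M := push p) (N := ClSub.quotMod (𝓘 ^ (n + 1)))
    (fun W hW => (AddMonoidHom.mk'
      (fun (x : Γ(A, p ⁻¹ᵁ W)) => (𝓘 ^ (n + 1)).subschemeι.app W (tau p W (a W hW * x)))
      (fun x x' => by rw [mul_add, tau_add, map_add]) :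
        Γ(A, p ⁻¹ᵁ W) →+ Γ((𝓘 ^ (n + 1)).subscheme, (𝓘 ^ (n + 1)).subschemeι ⁻¹ᵁ W)))
    (fun W hW r (x : Γ(A, p ⁻¹ᵁ W)) => by
      show (𝓘 ^ (n + 1)).subschemeι.app W (tau p W (a W hW * (p.app W r * x))) =
        (𝓘 ^ (n + 1)).subschemeι.app W r * (𝓘 ^ (n + 1)).subschemeι.app W (tau p W (a W hW * x))
      rw [mul_left_comm, tau_mul, map_mul])
    (fun U V hU hV h (x : Γ(A, p ⁻¹ᵁ U)) => by
      show (𝓘 ^ (n + 1)).subschemeι.app V (tau p V (a V hV * resU p h x)) =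
        (𝓘 ^ (n + 1)).subscheme.presheaf.map (homOfLE (Scheme.Hom.preimage_mono _ h)).op
          ((𝓘 ^ (n + 1)).subschemeι.app U (tau p U (a U hU * x)))
      rw [res_app _ h, tau_res p h, resU_mul]
      exact red_tau_congr p 𝓘 n hV ((ha V hV).trans (lifts_res p 𝓘 n (e n) h (ha U hU)).symm) _)
  refine ⟨y, fun W hW b hb x => (hy W hW x).trans ?_⟩
  exact red_tau_congr p 𝓘 n hW ((ha W hW).trans hb.symm) x

theorem quotMap_app_subschemeι {I J : X.IdealSheafData} (h : I ≤ J) (W : X.Opens) (r : Γ(X, W)) :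
    (Lef.quotMap h).app W (I.subschemeι.app W r) = J.subschemeι.app W r :=
  congr(($(toSubscheme_quotMap h)).app W r)

theorem formalHom_compat (e : ∀ n, Γ((lev p 𝓘 n).subscheme, ⊤)) (n : ℕ)
    (he : (Scheme.IdealSheafData.inclusion (lev_le p 𝓘 n)).appTop (e (n + 1)) = e n)
    (y₁ : push p ⟶ ClSub.quotMod (𝓘 ^ (n + 2))) (y₀ : push p ⟶ ClSub.quotMod (𝓘 ^ (n + 1)))
    (hy₁ : ∀ (W : X.Opens), IsAffineOpen W → ∀ (a : Γ(A, p ⁻¹ᵁ W)), Lifts p 𝓘 (n + 1) (e (n + 1)) W a →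
      ∀ x : Γ(A, p ⁻¹ᵁ W), y₁.app W x = (𝓘 ^ (n + 2)).subschemeι.app W (tau p W (a * x)))
    (hy₀ : ∀ (W : X.Opens), IsAffineOpen W → ∀ (a : Γ(A, p ⁻¹ᵁ W)), Lifts p 𝓘 n (e n) W a →
      ∀ x : Γ(A, p ⁻¹ᵁ W), y₀.app W x = (𝓘 ^ (n + 1)).subschemeι.app W (tau p W (a * x))) :
    y₁ ≫ Lef.quotMap (Lef.pow_succ_le 𝓘 n) = y₀ := by
  refine RelSpec.modHom_ext fun W hW x => ?_
  obtain ⟨a, ha⟩ := exists_lift p 𝓘 (n + 1) (e (n + 1)) hW
  have ha' : Lifts p 𝓘 n (e n) W a := by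
    rw [← he]
    exact app_restrict_comp (Scheme.IdealSheafData.inclusion_subschemeι (lev_le p 𝓘 n)) _ a _ ha
  refine Eq.trans ?_ (hy₀ W hW a ha' x).symm
  refine Eq.trans (congrArg ((Lef.quotMap (Lef.pow_succ_le 𝓘 n)).app W) (hy₁ W hW a ha x)) ?_
  exact quotMap_app_subschemeι _ W _

/-- Functions on the cover are the limit of those on the preimages of the thickenings. -/
theorem secBij_cover (h : Lef.HomToFormalBijective 𝓘 (push p)) :
    SecBij (lev p 𝓘) (lev_le p 𝓘) := by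
  constructor
  · intro t ht
    have hl : ∀ n (W : X.Opens), (lev p 𝓘 n).subschemeι.app (p ⁻¹ᵁ W)
        (A.presheaf.map (homOfLE (le_top : p ⁻¹ᵁ W ≤ ⊤)).op t) = 0 := fun n W => by
      rw [← res_app]
      exact (congrArg _ (ht n)).trans (map_zero _)
    obtain ⟨φ, hφ⟩ := RelSpec.exists_modHom (M := push p) (N := Coh.structureModule X)
      (fun W _ => (AddMonoidHom.mk'
        (fun (x : Γ(A, p ⁻¹ᵁ W)) => tau p W (A.presheaf.map (homOfLE (le_top : p ⁻¹ᵁ W ≤ ⊤)).op t * x))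
        (fun x x' => by rw [mul_add, tau_add]) : Γ(A, p ⁻¹ᵁ W) →+ Γ(X, W)))
      (fun W hW r (x : Γ(A, p ⁻¹ᵁ W)) => by
        show tau p W (_ * (p.app W r * x)) = r * tau p W (_ * x)
        rw [mul_left_comm, tau_mul])
      (fun U V hU hV h (x : Γ(A, p ⁻¹ᵁ U)) => by
        show tau p V (_ * resU p h x) = X.presheaf.map (homOfLE h).op (tau p U (_ * x))
        rw [tau_res p h, resU_mul, resU_res])
    have hφ0 : φ = 0 := h.1 φ 0 fun n => by
      refine RelSpec.modHom_ext fun W hW x => ?_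
      rw [Limits.zero_comp]
      exact (congrArg ((𝓘 ^ (n + 1)).subschemeι.app W) (hφ W hW x)).trans
        (red_tau_eq_zero p 𝓘 n hW (hl n W) x)
    refine sheaf_ext fun z _ => ?_
    obtain ⟨W, -, hzW, hW⟩ := exists_good_le p (x := p z) (V := ⊤) trivial
    refine ⟨p ⁻¹ᵁ W, le_top, hzW, Eq.trans ?_ (map_zero _).symm⟩
    refine (existsUnique_tau_eq p hW 0 (fun r x => (mul_zero r).symm)).unique (fun x => ?_)
      (fun x => by rw [zero_mul, tau_zero]; rfl)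
    exact (congr(($(hφ0)).app W x)).symm.trans (hφ W hW.1 x)
  · intro e he
    choose y hy using exists_formalHom p 𝓘 e
    obtain ⟨φ, hφ⟩ := h.2 y fun n =>
      formalHom_compat p 𝓘 e n (he n) (y (n + 1)) (y n) (hy (n + 1)) (hy n)
    obtain ⟨t, ht⟩ := exists_global_rep p φ
    refine ⟨show Γ(A, ⊤) from t, fun n => ?_⟩
    refine sheaf_ext fun z _ => ?_
    obtain ⟨W, -, hzW, hW⟩ := exists_good_le p (x := p ((lev p 𝓘 n).subschemeι z)) (V := ⊤) trivial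
    refine ⟨(lev p 𝓘 n).subschemeι ⁻¹ᵁ p ⁻¹ᵁ W, le_top, hzW, ?_⟩
    obtain ⟨a, ha⟩ := exists_lift p 𝓘 n (e n) hW.1
    refine Eq.trans ?_ ha
    refine (res_app _ (le_top : p ⁻¹ᵁ W ≤ ⊤) _).trans ?_
    refine sub_eq_zero.1 ((map_sub _ _ _).symm.trans ((app_eq_zero_iff p _ hW.1 _).2 ?_))
    refine mem_map_of_tau_mem p _ hW fun x => ?_
    rw [← Scheme.IdealSheafData.ker_subschemeι_app, RingHom.mem_ker, sub_mul, tau_sub, map_sub, sub_eq_zero]
    refine Eq.trans (congrArg ((𝓘 ^ (n + 1)).subschemeι.app W) ?_)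
      ((congr(($(hφ n)).app W x)).trans (hy n W hW.1 a ha x))
    refine Eq.trans ?_ (ht W hW W le_rfl x).symm
    rw [resU_self]
    rfl

end GrothLib.LefEt7
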