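import Groth.Agent.Lib.LefEt7.TraceAlg
import Groth.Agent.Lib.FinCov.Trace
import Groth.Agent.Lib.FEt21.Affine
import Groth.Agent.Lib.FEt21.Push
import Groth.Agent.Lib.BlowUp.IdealComap

/-!
# The trace of a finite étale morphism on sections
-/

set_option autoImplicit false
set_option backward.isDefEq.respectTransparency false
set_option linter.unusedSectionVars false
set_option linter.style.haveILetI false

universe u

open CategoryTheory AlgebraicGeometry TopologicalSpace Opposite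

namespace GrothLib.LefEt7

variable {X A : Scheme.{u}} (p : A ⟶ X) [IsFinite p] [Etale p]

/-- The direct image of the structure sheaf. -/
noncomputable abbrev push : X.Modules := (Scheme.Modules.pushforward p).obj (Coh.structureModule A)

theorem isFinLocFree_push : FlatMod.IsFinLocFree (push p) :=
  GrothLib.FEt21.isFinLocFree_pushforward_structure p

/-- The direct image algebra. -/
noncomputable abbrev dimg : RelSpec.QCAlg X := RelSpec.QCAlg.directImage p

theorem isFinLocFree_dimg : FlatMod.IsFinLocFree (dimg p).toModule := isFinLocFree_push p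

/-- The trace on sections. -/
noncomputable def tau (W : X.Opens) (x : Γ(A, p ⁻¹ᵁ W)) : Γ(X, W) :=
  FinCov.T (dimg p) (isFinLocFree_dimg p) W x

theorem tau_eq_app (W : X.Opens) (x : Γ(A, p ⁻¹ᵁ W)) :
    tau p W x = (FinCov.traceHom (dimg p) (isFinLocFree_dimg p)).app W x := rfl

theorem tau_add (W : X.Opens) (x y : Γ(A, p ⁻¹ᵁ W)) : tau p W (x + y) = tau p W x + tau p W y :=
  map_add ((FinCov.traceHom (dimg p) (isFinLocFree_dimg p)).app W).hom x y

theorem tau_zero (W : X.Opens) : tau p W 0 = 0 :=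
  map_zero ((FinCov.traceHom (dimg p) (isFinLocFree_dimg p)).app W).hom

theorem tau_sub (W : X.Opens) (x y : Γ(A, p ⁻¹ᵁ W)) : tau p W (x - y) = tau p W x - tau p W y :=
  map_sub ((FinCov.traceHom (dimg p) (isFinLocFree_dimg p)).app W).hom x y

theorem tau_mul (W : X.Opens) (r : Γ(X, W)) (x : Γ(A, p ⁻¹ᵁ W)) :
    tau p W (p.app W r * x) = r * tau p W x :=
  Scheme.Modules.Hom.app_smul (FinCov.traceHom (dimg p) (isFinLocFree_dimg p)) r x

/-- Restriction of functions upstairs. -/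
noncomputable abbrev resU {V W : X.Opens} (h : V ≤ W) (x : Γ(A, p ⁻¹ᵁ W)) : Γ(A, p ⁻¹ᵁ V) :=
  A.presheaf.map (homOfLE (p.preimage_mono h)).op x

theorem tau_res {V W : X.Opens} (h : V ≤ W) (x : Γ(A, p ⁻¹ᵁ W)) :
    X.presheaf.map (homOfLE h).op (tau p W x) = tau p V (resU p h x) :=
  FinCov.app_res (dimg p) (FinCov.traceHom (dimg p) (isFinLocFree_dimg p)) h x

theorem app_res {V W : X.Opens} (h : V ≤ W) (r : Γ(X, W)) :
    resU p h (p.app W r) = p.app V (X.presheaf.map (homOfLE h).op r) :=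
  FinCov.resA_str (dimg p) h r

theorem resU_resU {U V W : X.Opens} (h : V ≤ W) (h' : U ≤ V) (x : Γ(A, p ⁻¹ᵁ W)) :
    resU p h' (resU p h x) = resU p (h'.trans h) x :=
  FinCov.resA_resA (dimg p) h h' x

theorem resU_self {W : X.Opens} (h : W ≤ W) (x : Γ(A, p ⁻¹ᵁ W)) : resU p h x = x := by
  rw [resU, Subsingleton.elim (homOfLE (p.preimage_mono h)).op (𝟙 _), CategoryTheory.Functor.map_id]
  rfl

theorem resU_mul {V W : X.Opens} (h : V ≤ W) (a b : Γ(A, p ⁻¹ᵁ W)) :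
    resU p h (a * b) = resU p h a * resU p h b :=
  map_mul (A.presheaf.map (homOfLE (p.preimage_mono h)).op).hom a b

theorem resU_res {V W : X.Opens} (h : V ≤ W) (t : Γ(A, ⊤)) :
    resU p h (A.presheaf.map (homOfLE (le_top : p ⁻¹ᵁ W ≤ ⊤)).op t) =
      A.presheaf.map (homOfLE (le_top : p ⁻¹ᵁ V ≤ ⊤)).op t := by
  rw [resU, ← ConcreteCategory.comp_apply, ← Functor.map_comp]
  rfl

/-- Opens over which the cover is affine and finite free. -/
abbrev Good (W : X.Opens) : Prop := FinCov.Good (dimg p) W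

theorem exists_good_le {V : X.Opens} {x : X} (hx : x ∈ V) : ∃ W ≤ V, x ∈ W ∧ Good p W :=
  FinCov.exists_good_le (dimg p) (isFinLocFree_dimg p) hx

theorem tau_mem_ideal (K : X.IdealSheafData) {W : X.Opens} (hW : IsAffineOpen W) {x : Γ(A, p ⁻¹ᵁ W)}
    (hx : x ∈ (K.ideal ⟨W, hW⟩).map (p.app W).hom) (y : Γ(A, p ⁻¹ᵁ W)) :
    tau p W (x * y) ∈ K.ideal ⟨W, hW⟩ := by
  induction hx using Submodule.span_induction generalizing y with
  | mem x hx =>
    obtain ⟨r, hr, rfl⟩ := hx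
    rw [tau_mul]
    exact Ideal.mul_mem_right _ _ hr
  | zero => rw [zero_mul, tau_zero]; exact zero_mem _
  | add x x' _ _ h h' => rw [add_mul, tau_add]; exact add_mem (h y) (h' y)
  | smul c x _ h => rw [smul_eq_mul, mul_comm c, mul_assoc]; exact h (c * y)

theorem tau_eq_trace {W : X.Opens} (hW : Good p W) (x : Γ(A, p ⁻¹ᵁ W)) :
    letI := (p.app W).hom.toAlgebra
    tau p W x = Algebra.trace Γ(X, W) Γ(A, p ⁻¹ᵁ W) x :=
  FinCov.isTrace_traceHom (dimg p) (isFinLocFree_dimg p) W hW.1 hW.2.1 hW.2.2 x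

/-- On a good open every linear functional is a trace, uniquely. -/
theorem existsUnique_tau_eq {W : X.Opens} (hW : Good p W) (φ : Γ(A, p ⁻¹ᵁ W) →+ Γ(X, W))
    (hφ : ∀ r x, φ (p.app W r * x) = r * φ x) :
    ∃! a : Γ(A, p ⁻¹ᵁ W), ∀ x, φ x = tau p W (a * x) := by
  letI := (p.app W).hom.toAlgebra
  haveI : Module.Free Γ(X, W) Γ(A, p ⁻¹ᵁ W) := hW.2.1
  haveI : Module.Finite Γ(X, W) Γ(A, p ⁻¹ᵁ W) := hW.2.2
  haveI : Algebra.Etale Γ(X, W) Γ(A, p ⁻¹ᵁ W) := GrothLib.FEt21.etale_app_algebra p hW.1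
  obtain ⟨a, ha, hu⟩ := existsUnique_trace_eq
    { toFun := φ
      map_add' := map_add φ
      map_smul' := fun r x => (congrArg φ (Algebra.smul_def r x)).trans (hφ r x) }
  exact ⟨a, fun x => (ha x).trans (tau_eq_trace p hW _).symm,
    fun b hb => hu b fun x => (hb x).trans (tau_eq_trace p hW _)⟩

theorem mem_map_of_tau_mem (K : X.IdealSheafData) {W : X.Opens} (hW : Good p W) {z : Γ(A, p ⁻¹ᵁ W)}
    (h : ∀ x, tau p W (z * x) ∈ K.ideal ⟨W, hW.1⟩) : z ∈ (K.ideal ⟨W, hW.1⟩).map (p.app W).hom := by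
  letI := (p.app W).hom.toAlgebra
  haveI : Module.Free Γ(X, W) Γ(A, p ⁻¹ᵁ W) := hW.2.1
  haveI : Module.Finite Γ(X, W) Γ(A, p ⁻¹ᵁ W) := hW.2.2
  haveI : Algebra.Etale Γ(X, W) Γ(A, p ⁻¹ᵁ W) := GrothLib.FEt21.etale_app_algebra p hW.1
  exact mem_map_of_trace_mem _ fun x => tau_eq_trace p hW (z * x) ▸ h x

theorem app_eq_zero_iff (K : X.IdealSheafData) {W : X.Opens} (hW : IsAffineOpen W) (x : Γ(A, p ⁻¹ᵁ W)) :
    (K.comap p).subschemeι.app (p ⁻¹ᵁ W) x = 0 ↔ x ∈ (K.ideal ⟨W, hW⟩).map (p.app W).hom := by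
  rw [← RingHom.mem_ker, (K.comap p).ker_subschemeι_app ⟨p ⁻¹ᵁ W, hW.preimage p⟩,
    GrothLib.BlowUp.ideal_comap_eq_map K p ⟨W, hW⟩ ⟨p ⁻¹ᵁ W, hW.preimage p⟩ le_rfl, Scheme.Hom.app_eq_appLE]

end GrothLib.LefEt7
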