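import Groth.Agent.Lib.RegSheaf.BCMate
import Groth.Agent.Lib.OX.LocFreeTensor
import Groth.Prelude.Def_FSch3
import Groth.Prelude.Def_Lef
import Groth.Agent.Lib.LefEt7.Sec

/-!
# Morphisms of completions into the completion of `O` are compatible families into the quotients of `O`
-/

set_option autoImplicit false
set_option backward.isDefEq.respectTransparency false

universe u

open CategoryTheory CategoryTheory.Limits AlgebraicGeometry

namespace GrothLib.LefEt7

variable {X : Scheme.{u}}

theorem homEquiv_pullUnitIso {Z : Scheme.{u}} (f : Z ⟶ X) :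
    (Scheme.Modules.pullbackPushforwardAdjunction f).homEquiv _ _ (OX.pullUnitIso f).hom =
      ClSub.unitToPush f := by
  refine (Equiv.apply_symm_apply _ (SheafOfModules.unitToPushforwardObjUnit _)).trans ?_
  rfl

/-- The transition map between two pullbacks along a factorisation. -/
noncomputable abbrev trC {Z' Z : Scheme.{u}} {j : Z' ⟶ Z} {i : Z ⟶ X} {k : Z' ⟶ X} (e : j ≫ i = k)
    (M : X.Modules) :=
  (Scheme.Modules.pullbackComp j i ≪≫ Scheme.Modules.pullbackCongr e).app M

theorem homEquiv_trC {Z' Z : Scheme.{u}} {j : Z' ⟶ Z} {i : Z ⟶ X} {k : Z' ⟶ X} (e : j ≫ i = k) (M : X.Modules)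
    (z : (Scheme.Modules.pullback i).obj M ⟶ Coh.structureModule Z) :
    (Scheme.Modules.pullbackPushforwardAdjunction k).homEquiv _ _
        ((trC e M).inv ≫ (Scheme.Modules.pullback j).map z ≫ (OX.pullUnitIso j).hom) =
      (Scheme.Modules.pullbackPushforwardAdjunction i).homEquiv _ _ z ≫
        (Scheme.Modules.pushforward i).map (ClSub.unitToPush j) ≫
          (Scheme.Modules.pushforwardComp j i).hom.app _ ≫ (Scheme.Modules.pushforwardCongr e).hom.app _ := by
  subst e
  have h1 : (Scheme.Modules.pushforwardCongr (rfl : j ≫ i = j ≫ i)).hom.app (Coh.structureModule Z') = 𝟙 _ := by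
    refine Scheme.Modules.hom_ext _ _ fun U => ?_
    rw [Scheme.Modules.pushforwardCongr_hom_app_app]
    exact (Coh.structureModule Z').presheaf.map_id _
  have h2 : (trC (rfl : j ≫ i = j ≫ i) M).inv = (Scheme.Modules.pullbackComp j i).inv.app M := by
    show (Scheme.Modules.pullbackCongr (rfl : j ≫ i = j ≫ i)).inv.app M ≫ _ = _
    exact Category.id_comp _
  rw [h1, Category.comp_id, h2, VA.homEquiv_pullbackComp, Adjunction.homEquiv_naturality_left,
    homEquiv_pullUnitIso, Adjunction.homEquiv_naturality_right, Category.assoc]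

theorem unitToPush_trans {Z' Z : Scheme.{u}} {j : Z' ⟶ Z} {i : Z ⟶ X} {k : Z' ⟶ X} (e : j ≫ i = k) :
    ClSub.unitToPush i ≫ (Scheme.Modules.pushforward i).map (ClSub.unitToPush j) ≫
        (Scheme.Modules.pushforwardComp j i).hom.app _ ≫ (Scheme.Modules.pushforwardCongr e).hom.app _ =
      ClSub.unitToPush k := by
  subst e
  refine Scheme.Modules.hom_ext _ _ fun U => ?_
  ext s
  exact congr($((Coh.structureModule Z').presheaf.map_id _) _)

/-- Compatible transposes give compatible morphisms of pullbacks. -/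
theorem map_transpose_comp {Z' Z : Scheme.{u}} {j : Z' ⟶ Z} {i : Z ⟶ X} {k : Z' ⟶ X} (e : j ≫ i = k)
    {D : X.Modules} (z : (Scheme.Modules.pullback i).obj D ⟶ Coh.structureModule Z)
    (w : (Scheme.Modules.pullback k).obj D ⟶ Coh.structureModule Z')
    (hw : (Scheme.Modules.pullbackPushforwardAdjunction k).homEquiv _ _ w =
      (Scheme.Modules.pullbackPushforwardAdjunction i).homEquiv _ _ z ≫
        (Scheme.Modules.pushforward i).map (ClSub.unitToPush j) ≫
          (Scheme.Modules.pushforwardComp j i).hom.app _ ≫ (Scheme.Modules.pushforwardCongr e).hom.app _) :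
    (Scheme.Modules.pullback j).map (z ≫ (OX.pullUnitIso i).inv) ≫ (trC e (Coh.structureModule X)).hom =
      (trC e D).hom ≫ w ≫ (OX.pullUnitIso k).inv := by
  have hz : (trC e D).hom ≫ w = (Scheme.Modules.pullback j).map z ≫ (OX.pullUnitIso j).hom := by
    rw [← homEquiv_trC e D z] at hw
    rw [Equiv.injective _ hw, Iso.hom_inv_id_assoc]
  have hu : (Scheme.Modules.pullback j).map (OX.pullUnitIso i).hom ≫ (OX.pullUnitIso j).hom =
      (trC e (Coh.structureModule X)).hom ≫ (OX.pullUnitIso k).hom := by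
    rw [← Iso.inv_comp_eq]
    apply ((Scheme.Modules.pullbackPushforwardAdjunction k).homEquiv _ _).injective
    rw [homEquiv_trC, homEquiv_pullUnitIso, homEquiv_pullUnitIso, unitToPush_trans]
  rw [← cancel_mono (OX.pullUnitIso k).hom]
  simp only [Category.assoc, Iso.inv_hom_id, Category.comp_id, ← hu]
  rw [← Category.assoc, ← Functor.map_comp, Category.assoc, Iso.inv_hom_id, Category.comp_id, hz]

/-- The transpose of a morphism into a quotient of `O`, as a morphism of pullbacks. -/
noncomputable def toPull (I : X.IdealSheafData) {D : X.Modules} (y : D ⟶ ClSub.quotMod I) :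
    (Scheme.Modules.pullback I.subschemeι).obj D ⟶
      (Scheme.Modules.pullback I.subschemeι).obj (Coh.structureModule X) :=
  ((Scheme.Modules.pullbackPushforwardAdjunction I.subschemeι).homEquiv _ _).symm y ≫
    (OX.pullUnitIso I.subschemeι).inv

theorem toPull_comp (I : X.IdealSheafData) {D : X.Modules} (φ : D ⟶ Coh.structureModule X) :
    toPull I (φ ≫ ClSub.toSubscheme I) = (Scheme.Modules.pullback I.subschemeι).map φ := by
  rw [toPull, Iso.comp_inv_eq, Equiv.symm_apply_eq, Adjunction.homEquiv_naturality_left, homEquiv_pullUnitIso]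

theorem toPull_injective (I : X.IdealSheafData) {D : X.Modules} :
    Function.Injective (toPull I : (D ⟶ ClSub.quotMod I) → _) := fun a b h => by
  rw [toPull, toPull, cancel_mono] at h
  exact Equiv.injective _ h

theorem toPull_quotMap {I J : X.IdealSheafData} (h : I ≤ J) {D : X.Modules} (y : D ⟶ ClSub.quotMod I) :
    (Scheme.Modules.pullback (Scheme.IdealSheafData.inclusion h)).map (toPull I y) ≫
        (trC (Scheme.IdealSheafData.inclusion_subschemeι h) (Coh.structureModule X)).hom =
      (trC (Scheme.IdealSheafData.inclusion_subschemeι h) D).hom ≫ toPull J (y ≫ Lef.quotMap h) := by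
  refine map_transpose_comp _ _ _ ?_
  rw [Equiv.apply_symm_apply, Equiv.apply_symm_apply]
  rfl

theorem complTransIso_eq (𝓘 : X.IdealSheafData) (n : ℕ) : FSch.complTransIso 𝓘 n = 
  Scheme.Modules.pullbackComp ((FSch.completionAlong X 𝓘).ι n) (FSch.completionToX X 𝓘 (n + 1)) ≪≫
    Scheme.Modules.pullbackCongr (Scheme.IdealSheafData.inclusion_subschemeι (FSch.pow_succ_le X 𝓘 n)) := by
  delta FSch.complTransIso
  rfl

theorem complMod_e_eq (𝓘 : X.IdealSheafData) (n : ℕ) (M : X.Modules) :
    (FSch.complMod 𝓘 M).e n = trC (j := (FSch.completionAlong X 𝓘).ι n) (i := FSch.completionToX X 𝓘 (n+1))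
      (k := FSch.completionToX X 𝓘 n)
      (Scheme.IdealSheafData.inclusion_subschemeι (FSch.pow_succ_le X 𝓘 n)) M := by
  rw [FSch.complMod_e, complTransIso_eq]

/-- The transpose, typed on the levels of the completion. -/
noncomputable def toPullC (𝓘 : X.IdealSheafData) (n : ℕ) {D : X.Modules} (y : D ⟶ ClSub.quotMod (𝓘 ^ (n + 1))) :
    (FSch.complMod 𝓘 D).F n ⟶ (FSch.complMod 𝓘 (Coh.structureModule X)).F n :=
  toPull (𝓘 ^ (n + 1)) y

theorem complMod_comm (𝓘 : X.IdealSheafData) (n : ℕ) {D : X.Modules} (y : D ⟶ ClSub.quotMod (𝓘 ^ (n + 1 + 1))) :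
    (Scheme.Modules.pullback ((FSch.completionAlong X 𝓘).ι n)).map (toPullC 𝓘 (n + 1) y) ≫
        ((FSch.complMod 𝓘 (Coh.structureModule X)).e n).hom =
      ((FSch.complMod 𝓘 D).e n).hom ≫ toPullC 𝓘 n (y ≫ Lef.quotMap (Lef.pow_succ_le 𝓘 n)) := by
  rw [complMod_e_eq, complMod_e_eq]
  refine map_transpose_comp (j := (FSch.completionAlong X 𝓘).ι n) (i := FSch.completionToX X 𝓘 (n + 1))
    (k := FSch.completionToX X 𝓘 n) (Scheme.IdealSheafData.inclusion_subschemeι (FSch.pow_succ_le X 𝓘 n))
    (((Scheme.Modules.pullbackPushforwardAdjunction (FSch.completionToX X 𝓘 (n + 1))).homEquiv _ _).symm y)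
    (((Scheme.Modules.pullbackPushforwardAdjunction (FSch.completionToX X 𝓘 n)).homEquiv _ _).symm
      (y ≫ Lef.quotMap (Lef.pow_succ_le 𝓘 n))) ?_
  rw [Equiv.apply_symm_apply, Equiv.apply_symm_apply]
  delta Lef.quotMap FSch.completionAlong
  rfl

/-- Full faithfulness of completion on `Hom(D, O)` gives the Lefschetz bijectivity for `D`. -/
theorem homToFormalBijective_of_completion (𝓘 : X.IdealSheafData) (D : X.Modules)
    (h : Function.Bijective (fun φ : D ⟶ Coh.structureModule X => FSch.complModMap 𝓘 φ)) :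
    Lef.HomToFormalBijective 𝓘 D := by
  constructor
  · intro φ ψ hφ
    refine h.1 (FSch.ModSys.Hom.ext (funext fun n => ?_))
    show (Scheme.Modules.pullback _).map φ = (Scheme.Modules.pullback _).map ψ
    rw [← toPull_comp, ← toPull_comp, hφ n]
  · intro y hy
    obtain ⟨φ, hφ⟩ := h.2 ⟨fun n => toPullC 𝓘 n (y n), fun n => by
      refine (complMod_comm 𝓘 n (y (n + 1))).trans ?_
      rw [hy n]⟩
    refine ⟨φ, fun n => toPull_injective _ ?_⟩
    rw [toPull_comp]
    exact congrArg (fun k => FSch.ModSys.Hom.app k n) hφ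

end GrothLib.LefEt7
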