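import Groth.Agent.Lib.FEt21.AppBijective
import Mathlib.AlgebraicGeometry.IdealSheaf.Functorial

/-!
# Clopen subsets of a scheme whose functions are a limit over thickenings of a closed subscheme
-/

set_option autoImplicit false
set_option backward.isDefEq.respectTransparency false

universe u

open CategoryTheory AlgebraicGeometry TopologicalSpace

namespace GrothLib.LefEt7

variable {V : Scheme.{u}}

/-- Global functions are the limit of the functions on a decreasing family of closed subschemes. -/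
def SecBij (J : ℕ → V.IdealSheafData) (hJ : ∀ n, J (n + 1) ≤ J n) : Prop :=
  (∀ t : Γ(V, ⊤), (∀ n, (J n).subschemeι.appTop t = 0) → t = 0) ∧
  ∀ e : ∀ n, Γ((J n).subscheme, ⊤),
    (∀ n, (Scheme.IdealSheafData.inclusion (hJ n)).appTop (e (n + 1)) = e n) →
    ∃ t : Γ(V, ⊤), ∀ n, (J n).subschemeι.appTop t = e n

/-- An idempotent function vanishing at every point is zero. -/
theorem idem_eq_zero {W : V.Opens} {e : Γ(V, W)} (he : IsIdempotentElem e) (hb : V.basicOpen e = ⊥) :
    e = 0 := by
  refine TopCat.Presheaf.section_ext V.sheaf W e 0 fun x hx => ?_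
  refine Eq.trans ?_ (map_zero (V.presheaf.germ W x hx).hom).symm
  show (V.presheaf.germ W x hx) e = 0
  rcases IsLocalRing.isUnit_or_isUnit_one_sub_self ((V.presheaf.germ W x hx) e) with h | h
  · exact absurd (hb.le ((V.mem_basicOpen e x hx).2 h)) (fun h' => h')
  · refine h.mul_left_eq_zero.1 ?_
    rw [mul_sub, mul_one, sub_eq_zero]
    exact (he.map (V.presheaf.germ W x hx).hom).eq.symm

theorem idem_ext {W : V.Opens} {e f : Γ(V, W)} (he : IsIdempotentElem e) (hf : IsIdempotentElem f)
    (h : V.basicOpen e = V.basicOpen f) : e = f := by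
  have key : ∀ {a b : Γ(V, W)}, IsIdempotentElem a → IsIdempotentElem b →
      V.basicOpen a ⊓ V.basicOpen b = ⊥ → a * b = 0 :=
    fun ha hb hab => idem_eq_zero (ha.mul hb) ((V.basicOpen_mul _ _).trans hab)
  have dis : ∀ {a : Γ(V, W)}, IsIdempotentElem a → V.basicOpen a ⊓ V.basicOpen (1 - a) = ⊥ := by
    intro a ha
    rw [← V.basicOpen_mul, mul_sub, mul_one, ha.eq, sub_self, Scheme.basicOpen_zero]
  have h1 : e * (1 - f) = 0 := key he hf.one_sub (by rw [h]; exact dis hf)
  have h2 : f * (1 - e) = 0 := key hf he.one_sub (by rw [← h]; exact dis he)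
  rw [mul_sub, mul_one, sub_eq_zero] at h1 h2
  rw [h1, mul_comm, ← h2]

theorem range_subschemeι_eq {J : ℕ → V.IdealSheafData} (hs : ∀ n, (J n).support = (J 0).support) (n : ℕ) :
    Set.range (J n).subschemeι = Set.range (J 0).subschemeι := by
  rw [(J n).range_subschemeι, (J 0).range_subschemeι, hs]

theorem appTop_comp {X Y Z : Scheme.{u}} (f : X ⟶ Y) (g : Y ⟶ Z) {h : X ⟶ Z} (e : f ≫ g = h) (t : Γ(Z, ⊤)) :
    f.appTop (g.appTop t) = h.appTop t := by
  subst e; rfl

theorem preimage_basicOpen_top {X Y : Scheme.{u}} (f : X ⟶ Y) (t : Γ(Y, ⊤)) :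
    f ⁻¹ᵁ Y.basicOpen t = X.basicOpen (f.appTop t) :=
  Scheme.preimage_basicOpen f t

variable {J : ℕ → V.IdealSheafData} {hJ : ∀ n, J (n + 1) ≤ J n}

/-- A clopen subset of `V` missing the closed subscheme is empty. -/
theorem eq_empty_of_disjoint (h : SecBij J hJ) (hs : ∀ n, (J n).support = (J 0).support) {D : Set V}
    (hD : IsClopen D) (hd : Disjoint D ((J 0).support : Set V)) : D = ∅ := by
  obtain ⟨e, he, he1, -⟩ := GrothLib.FEt21.exists_indicator D hD (⊤ : V.Opens)
  have hid : IsIdempotentElem e := by rw [mul_sub, mul_one, sub_eq_zero] at he; exact he.symm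
  have h0 : e = 0 := h.1 e fun n => idem_eq_zero (hid.map (J n).subschemeι.appTop.hom) (by
    refine (preimage_basicOpen_top (J n).subschemeι e).symm.trans ?_
    refine Opens.ext (Set.eq_empty_of_forall_notMem fun z hz => ?_)
    have h1 : (J n).subschemeι z ∈ D := (he1.le hz).1
    refine Set.disjoint_left.1 hd h1 ?_
    rw [← hs n, ← (J n).range_subschemeι]
    exact ⟨z, rfl⟩)
  refine Set.eq_empty_of_forall_notMem fun x hx => ?_
  have h2 : x ∈ (V.basicOpen e : Set V) := by rw [he1]; exact ⟨hx, trivial⟩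
  rw [h0, Scheme.basicOpen_zero] at h2
  exact h2

/-- A separation of the closed subscheme is cut out by a clopen subset of `V`. -/
theorem exists_clopen (h : SecBij J hJ) (hs : ∀ n, (J n).support = (J 0).support) {S T : Set V}
    (hS : IsClosed S) (hT : IsClosed T) (hST : Disjoint S T) (hu : S ∪ T = ((J 0).support : Set V)) :
    ∃ D : Set V, IsClopen D ∧ D ∩ ((J 0).support : Set V) = S := by
  have hmem : ∀ n (z : (J n).subscheme), (J n).subschemeι z ∈ S ∪ T := fun n z => by
    rw [hu, ← hs n, ← (J n).range_subschemeι]; exact ⟨z, rfl⟩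
  have hc : ∀ n, IsClopen ((J n).subschemeι ⁻¹' S) := fun n => by
    refine ⟨hS.preimage (J n).subschemeι.continuous, ?_⟩
    rw [show (J n).subschemeι ⁻¹' S = ((J n).subschemeι ⁻¹' T)ᶜ from ?_]
    · exact (hT.preimage (J n).subschemeι.continuous).isOpen_compl
    ext z
    exact ⟨fun hz hz' => Set.disjoint_left.1 hST hz hz', fun hz => (hmem n z).resolve_right hz⟩
  have hind := fun n => GrothLib.FEt21.exists_indicator _ (hc n) (⊤ : (J n).subscheme.Opens)
  choose e he he1 he2 using hind
  have hid : ∀ n, IsIdempotentElem (e n) := fun n => by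
    have := he n
    rw [mul_sub, mul_one, sub_eq_zero] at this
    exact this.symm
  have hι : ∀ n (z : (J n).subscheme), (J (n + 1)).subschemeι (Scheme.IdealSheafData.inclusion (hJ n) z) =
      (J n).subschemeι z := fun n z => by
    rw [← Scheme.Hom.comp_apply, Scheme.IdealSheafData.inclusion_subschemeι]
  have hcompat : ∀ n, (Scheme.IdealSheafData.inclusion (hJ n)).appTop (e (n + 1)) = e n := fun n => by
    refine idem_ext ((hid (n + 1)).map _) (hid n) ?_
    refine (preimage_basicOpen_top _ _).symm.trans (Opens.ext ?_)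
    rw [he1 n]
    show Scheme.IdealSheafData.inclusion (hJ n) ⁻¹' ((J (n + 1)).subscheme.basicOpen (e (n + 1)) : Set _) = _
    rw [he1 (n + 1)]
    ext z
    simp [hι]
  obtain ⟨t, ht⟩ := h.2 e hcompat
  have hti : t * (1 - t) = 0 := h.1 _ fun n => by
    rw [map_mul, map_sub, map_one, ht]; exact he n
  have hd : V.basicOpen t ⊓ V.basicOpen (1 - t) = ⊥ := by
    rw [← V.basicOpen_mul, hti, Scheme.basicOpen_zero]
  have hcov : ∀ x : V, x ∈ V.basicOpen t ∨ x ∈ V.basicOpen (1 - t) := fun x => by
    have h1 : IsUnit (V.presheaf.germ ⊤ x trivial t) ∨ IsUnit (V.presheaf.germ ⊤ x trivial (1 - t)) :=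
      IsLocalRing.isUnit_or_isUnit_of_isUnit_add (by rw [← map_add, add_sub_cancel, map_one]; exact isUnit_one)
    exact h1.imp (V.mem_basicOpen (U := ⊤) t x trivial).2 (V.mem_basicOpen (U := ⊤) (1 - t) x trivial).2
  refine ⟨(V.basicOpen t : Set V), ⟨?_, (V.basicOpen t).2⟩, ?_⟩
  · rw [show (V.basicOpen t : Set V) = (V.basicOpen (1 - t) : Set V)ᶜ from ?_]
    · exact (V.basicOpen (1 - t)).2.isClosed_compl
    ext x
    refine ⟨fun h1 h2 => ?_, fun h1 => (hcov x).resolve_right h1⟩
    exact (hd.le ⟨h1, h2⟩ : x ∈ (⊥ : V.Opens))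
  have key : ∀ z : (J 0).subscheme, (J 0).subschemeι z ∈ V.basicOpen t ↔ (J 0).subschemeι z ∈ S := fun z => by
    show z ∈ (((J 0).subschemeι ⁻¹ᵁ V.basicOpen t : (J 0).subscheme.Opens) : Set _) ↔ _
    rw [preimage_basicOpen_top, ht, he1]
    exact and_iff_left trivial
  ext x
  constructor
  · rintro ⟨h1, h2⟩
    rw [← (J 0).range_subschemeι] at h2
    obtain ⟨z, rfl⟩ := h2
    exact (key z).1 h1
  · intro hx
    have h2 : x ∈ ((J 0).support : Set V) := hu.le (Or.inl hx)
    refine ⟨?_, h2⟩
    rw [← (J 0).range_subschemeι] at h2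
    obtain ⟨z, rfl⟩ := h2
    exact (key z).2 hx

/-- The scheme is connected iff the closed subscheme is. -/
theorem connectedSpace_iff (h : SecBij J hJ) (hs : ∀ n, (J n).support = (J 0).support) :
    ConnectedSpace ((J 0).support : Set V) ↔ ConnectedSpace V := by
  have hclosed : IsClosed ((J 0).support : Set V) := (J 0).support.isClosed
  constructor
  · intro hY
    have : Nonempty V := ⟨(hY.toNonempty.some).1⟩
    refine connectedSpace_iff_clopen.2 ⟨inferInstance, fun s hs' => ?_⟩
    rcases isClopen_iff.1 (hs'.preimage continuous_subtype_val :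
      IsClopen ((Subtype.val : ((J 0).support : Set V) → V) ⁻¹' s)) with h0 | h0
    · exact Or.inl (eq_empty_of_disjoint h hs hs' (Set.disjoint_left.2 fun x hx hx' =>
        (h0.le (show (⟨x, hx'⟩ : ((J 0).support : Set V)) ∈ Subtype.val ⁻¹' s from hx))))
    · refine Or.inr (Set.compl_empty_iff.1 (eq_empty_of_disjoint h hs hs'.compl
        (Set.disjoint_left.2 fun x hx hx' => hx ?_)))
      exact h0.ge (Set.mem_univ (⟨x, hx'⟩ : ((J 0).support : Set V)))
  · intro hV
    have hne : ((J 0).support : Set V).Nonempty := by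
      by_contra hn
      have := eq_empty_of_disjoint h hs isClopen_univ
        (by rw [Set.not_nonempty_iff_eq_empty.1 hn]; exact Set.disjoint_empty _)
      exact Set.univ_nonempty.ne_empty this
    refine connectedSpace_iff_clopen.2 ⟨hne.to_subtype, fun s hs' => ?_⟩
    obtain ⟨D, hD, hDS⟩ := exists_clopen h hs
      (hclosed.isClosedEmbedding_subtypeVal.isClosedMap _ hs'.1)
      (hclosed.isClosedEmbedding_subtypeVal.isClosedMap _ hs'.compl.1)
      (Set.disjoint_image_of_injective Subtype.val_injective disjoint_compl_right)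
      (by rw [← Set.image_union, Set.union_compl_self, Set.image_univ, Subtype.range_coe])
    rcases isClopen_iff.1 hD with rfl | rfl
    · rw [Set.empty_inter] at hDS
      exact Or.inl (Set.image_eq_empty.1 hDS.symm)
    · rw [Set.univ_inter] at hDS
      refine Or.inr (Set.eq_univ_of_forall fun x => ?_)
      obtain ⟨y, hy, hxy⟩ := hDS.le x.2
      rwa [← Subtype.ext hxy]

end GrothLib.LefEt7
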