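import Groth.Agent.Lib.LefEt7.Cover
import Groth.Agent.Lib.FEt21.Clopen

/-!
# Restriction of finite étale covers to the closed subscheme is fully faithful under the Lefschetz bijectivity
-/

set_option autoImplicit false
set_option backward.isDefEq.respectTransparency false

universe u

open CategoryTheory CategoryTheory.Limits AlgebraicGeometry

namespace GrothLib.LefEt7

variable {X : Scheme.{u}} (𝓘 : X.IdealSheafData)

theorem support_lev {A : Scheme.{u}} (p : A ⟶ X) (n : ℕ) :
    ((lev p 𝓘 n).support : Set A) = p ⁻¹' (𝓘.support : Set X) := by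
  rw [lev, Scheme.IdealSheafData.support_comap, Scheme.IdealSheafData.support_pow_succ]
  rfl

theorem range_fst {A : Scheme.{u}} (p : A ⟶ X) :
    Set.range (pullback.fst p 𝓘.subschemeι) = p ⁻¹' (𝓘.support : Set X) := by
  rw [Scheme.Pullback.range_fst, 𝓘.range_subschemeι]

variable {A : Scheme.{u}} (p : A ⟶ X) [IsFinite p] [Etale p]

theorem eq_empty_of_preimage (h : SecBij (lev p 𝓘) (lev_le p 𝓘)) {D : Set A} (hD : IsClopen D)
    (he : pullback.fst p 𝓘.subschemeι ⁻¹' D = ∅) : D = ∅ := by
  refine eq_empty_of_disjoint h (fun n => TopologicalSpace.Closeds.ext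
    ((support_lev 𝓘 p n).trans (support_lev 𝓘 p 0).symm)) hD ?_
  rw [support_lev, ← range_fst 𝓘 p, Set.disjoint_left]
  rintro _ hd ⟨q, rfl⟩
  exact Set.eq_empty_iff_forall_notMem.1 he q hd

theorem exists_clopen_preimage (h : SecBij (lev p 𝓘) (lev_le p 𝓘))
    {D : Set (pullback p 𝓘.subschemeι : Scheme.{u})} (hD : IsClopen D) :
    ∃ D' : Set A, IsClopen D' ∧ pullback.fst p 𝓘.subschemeι ⁻¹' D' = D := by
  let fst := pullback.fst p 𝓘.subschemeι
  have he : Topology.IsClosedEmbedding fst := fst.isClosedEmbedding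
  obtain ⟨D', hD', hDD⟩ := exists_clopen h (fun n => TopologicalSpace.Closeds.ext
    ((support_lev 𝓘 p n).trans (support_lev 𝓘 p 0).symm)) (he.isClosedMap _ hD.1)
    (he.isClosedMap _ hD.compl.1) (Set.disjoint_image_of_injective he.injective disjoint_compl_right)
    (by rw [← Set.image_union, Set.union_compl_self, Set.image_univ, support_lev]; exact range_fst 𝓘 p)
  refine ⟨D', hD', ?_⟩
  ext q
  constructor
  · intro hq
    have : fst q ∈ D' ∩ ((lev p 𝓘 0).support : Set A) :=
      ⟨hq, by rw [support_lev, ← range_fst 𝓘 p]; exact ⟨q, rfl⟩⟩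
    rw [hDD] at this
    exact he.injective.mem_set_image.1 this
  · intro hq
    exact (hDD.ge ⟨q, hq, rfl⟩).1

/-- Full faithfulness from the bijectivity for all finite locally free modules. -/
theorem fullyFaithful_restrict
    (h : ∀ D : X.Modules, FlatMod.IsFinLocFree D → Lef.HomToFormalBijective 𝓘 D) :
    (FEt.restrict 𝓘.subschemeι).Full ∧ (FEt.restrict 𝓘.subschemeι).Faithful := by
  have hb : ∀ A : FEt.Cat X, SecBij (lev A.hom 𝓘) (lev_le A.hom 𝓘) := fun A => by
    have : IsFinite A.hom := A.prop.1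
    have : Etale A.hom := A.prop.2
    exact secBij_cover A.hom 𝓘 (h _ (isFinLocFree_push A.hom))
  have hf : ∀ A : FEt.Cat X, IsFinite A.hom ∧ Etale A.hom := fun A => A.prop
  exact GrothLib.FEt21.fullyFaithful_of_clopen _ (fun A _ hD he => by
      have := (hf A).1; have := (hf A).2; exact eq_empty_of_preimage 𝓘 A.hom (hb A) hD he)
    fun A _ hD => by
      have := (hf A).1; have := (hf A).2; exact exists_clopen_preimage 𝓘 A.hom (hb A) hD

end GrothLib.LefEt7
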