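import Groth.Agent.Lib.TraceEtale.Basic

/-!
# The trace pairing of a finite free unramified algebra is perfect
-/

set_option autoImplicit false

universe u

namespace GrothLib.LefEt7

variable {R S : Type u} [CommRing R] [CommRing S] [Algebra R S] [Module.Free R S] [Module.Finite R S]
  [Algebra.FormallyUnramified R S]

omit [Algebra.FormallyUnramified R S] [Module.Free R S] [Module.Finite R S] in
theorem trace_sum_mul {ι : Type u} [Fintype ι] (b : Module.Basis ι R S) (c : ι → R) (j : ι) :
    Algebra.trace R S ((∑ i, c i • b i) * b j) = ∑ i, Algebra.traceMatrix R b j i * c i := by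
  rw [Finset.sum_mul, map_sum]
  refine Finset.sum_congr rfl fun i _ => ?_
  rw [smul_mul_assoc, map_smul, Algebra.traceMatrix_apply, Algebra.traceForm_apply, mul_comm (b j),
    smul_eq_mul, mul_comm]

/-- Every functional is the trace against a unique element. -/
theorem existsUnique_trace_eq (φ : S →ₗ[R] R) : ∃! a : S, ∀ x, φ x = Algebra.trace R S (a * x) := by
  classical
  let b := Module.Free.chooseBasis R S
  have hu := (TraceEtale.formallyUnramified_iff_isUnit_det b).1 inferInstance
  let M := Algebra.traceMatrix R b
  refine ⟨∑ i, (M⁻¹.mulVec fun j => φ (b j)) i • b i, fun x => ?_, fun a ha => ?_⟩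
  · refine LinearMap.congr_fun (?_ : φ = (Algebra.trace R S).comp
      (LinearMap.mulLeft R (∑ i, (M⁻¹.mulVec fun j => φ (b j)) i • b i))) x
    refine b.ext fun j => ?_
    rw [LinearMap.comp_apply, LinearMap.mulLeft_apply, trace_sum_mul]
    show _ = (M.mulVec (M⁻¹.mulVec fun j => φ (b j))) j
    rw [Matrix.mulVec_mulVec, Matrix.mul_nonsing_inv _ hu, Matrix.one_mulVec]
  · conv_lhs => rw [← b.sum_repr a]
    refine Finset.sum_congr rfl fun i _ => congrArg (· • b i) ?_
    have h : (fun j => φ (b j)) = M.mulVec fun i => b.repr a i := funext fun j => by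
      rw [ha, ← b.sum_repr a, trace_sum_mul, b.repr_sum_self]
      rfl
    rw [h, Matrix.mulVec_mulVec, Matrix.nonsing_inv_mul _ hu, Matrix.one_mulVec]

/-- An element all of whose traces against the algebra lie in an ideal lies in the extended ideal. -/
theorem mem_map_of_trace_mem (I : Ideal R) {z : S} (h : ∀ x, Algebra.trace R S (z * x) ∈ I) :
    z ∈ I.map (algebraMap R S) := by
  classical
  let b := Module.Free.chooseBasis R S
  have hu := (TraceEtale.formallyUnramified_iff_isUnit_det b).1 inferInstance
  rw [← b.sum_repr z]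
  refine Ideal.sum_mem _ fun i _ => ?_
  rw [Algebra.smul_def]
  refine Ideal.mul_mem_right _ _ (Ideal.mem_map_of_mem _ ?_)
  have h2 : (fun i => b.repr z i) =
      (Algebra.traceMatrix R b)⁻¹.mulVec fun j => Algebra.trace R S (z * b j) := by
    have h3 : (fun j => Algebra.trace R S (z * b j)) =
        (Algebra.traceMatrix R b).mulVec fun i => b.repr z i := funext fun j => by
      conv_lhs => rw [← b.sum_repr z, trace_sum_mul]
      rfl
    rw [h3, Matrix.mulVec_mulVec, Matrix.nonsing_inv_mul _ hu, Matrix.one_mulVec]
  rw [congrFun h2 i]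
  exact Ideal.sum_mem _ fun j _ => Ideal.mul_mem_left _ _ (h (b j))

end GrothLib.LefEt7
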